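import Cfsg.Agent.LThreeCo1.Ev
set_option linter.all false

/-!
# Explicit elements of `Co0` (helper89; generated)
-/

set_option autoImplicit false
set_option maxRecDepth 20000

namespace Cfsg.Agent.CoFive.Mats

open Cfsg.Agent.LThreeCo1.Ev Cfsg.Agent.SporadicStructure.Co0Matrix Cfsg.Agent.CoOneType.CoEval

/-- matrix -/
def R1 : List (List ℤ) := [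
  [-2, 0, 0, 0, 0, 0, -2, 2, 0, 6, 0, 0, 0, 0, 0, 0, 0, -2, 2, -2, 0, 0, -2, 0],
  [0, 2, -2, -2, -2, -2, 0, 0, -2, 0, 2, 2, 2, -2, 2, -2, 2, 0, 0, 0, -2, -2, 0, -2],
  [0, -2, 2, -2, -2, -2, 0, 0, 2, 0, 2, 2, 2, 2, -2, 2, 2, 0, 0, 0, -2, 2, 0, 2],
  [0, 2, -2, 2, -2, -2, 0, 0, 2, 0, 2, -2, -2, 2, 2, -2, 2, 0, 0, 0, 2, 2, 0, 2],
  [0, 2, -2, 2, 2, 2, 0, 0, -2, 0, 2, -2, 2, -2, -2, 2, 2, 0, 0, 0, -2, 2, 0, 2],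
  [0, 2, -2, -2, -2, -2, 0, 0, -2, 0, -2, 2, -2, -2, -2, 2, -2, 0, 0, 0, 2, 2, 0, 2],
  [2, 0, 0, 0, 0, 0, -6, -2, 0, 2, 0, 0, 0, 0, 0, 0, 0, 2, -2, 2, 0, 0, 2, 0],
  [-2, 0, 0, 0, 0, 0, -2, 2, 0, -2, 0, 0, 0, 0, 0, 0, 0, -2, -6, -2, 0, 0, -2, 0],
  [0, -2, 2, 2, -2, -2, 0, 0, -2, 0, -2, -2, 2, -2, 2, -2, -2, 0, 0, 0, -2, 2, 0, 2],
  [-2, 0, 0, 0, 0, 0, -2, 2, 0, -2, 0, 0, 0, 0, 0, 0, 0, 6, 2, -2, 0, 0, -2, 0],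
  [0, 2, 2, -2, 2, -2, 0, 0, 2, 0, -2, -2, -2, -2, -2, -2, 2, 0, 0, 0, -2, 2, 0, -2],
  [0, 2, -2, -2, 2, 2, 0, 0, 2, 0, -2, 2, 2, 2, 2, -2, -2, 0, 0, 0, -2, 2, 0, 2],
  [0, -2, -2, -2, -2, 2, 0, 0, 2, 0, -2, -2, 2, -2, -2, -2, 2, 0, 0, 0, 2, -2, 0, 2],
  [0, 2, -2, 2, -2, -2, 0, 0, 2, 0, -2, -2, 2, 2, -2, 2, -2, 0, 0, 0, -2, -2, 0, -2],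
  [0, -2, -2, 2, -2, 2, 0, 0, -2, 0, -2, 2, -2, 2, -2, -2, 2, 0, 0, 0, -2, 2, 0, -2],
  [0, -2, -2, -2, 2, -2, 0, 0, -2, 0, 2, -2, 2, 2, -2, -2, -2, 0, 0, 0, 2, 2, 0, -2],
  [0, -2, -2, -2, 2, -2, 0, 0, -2, 0, -2, -2, -2, 2, 2, 2, 2, 0, 0, 0, -2, -2, 0, 2],
  [-2, 0, 0, 0, 0, 0, -2, 2, 0, -2, 0, 0, 0, 0, 0, 0, 0, -2, 2, -2, 0, 0, 6, 0],
  [2, 0, 0, 0, 0, 0, 2, 6, 0, 2, 0, 0, 0, 0, 0, 0, 0, 2, -2, 2, 0, 0, 2, 0],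
  [6, 0, 0, 0, 0, 0, -2, 2, 0, -2, 0, 0, 0, 0, 0, 0, 0, -2, 2, -2, 0, 0, -2, 0],
  [0, 2, 2, -2, -2, 2, 0, 0, -2, 0, -2, -2, 2, 2, 2, 2, 2, 0, 0, 0, 2, 2, 0, -2],
  [0, 2, 2, 2, 2, -2, 0, 0, -2, 0, -2, 2, 2, 2, -2, -2, 2, 0, 0, 0, 2, -2, 0, 2],
  [-2, 0, 0, 0, 0, 0, -2, 2, 0, -2, 0, 0, 0, 0, 0, 0, 0, -2, 2, 6, 0, 0, -2, 0],
  [0, 2, 2, -2, -2, 2, 0, 0, -2, 0, 2, -2, -2, 2, -2, -2, -2, 0, 0, 0, -2, -2, 0, 2]]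

theorem ok1 : Ok R1 (tr R1) := Cfsg.Agent.CoOneType.CoFast.ok_of_okZ (by decide +kernel)

/-- matrix -/
def R2 : List (List ℤ) := [
  [2, 4, 0, 0, 0, -2, 2, 0, 2, 2, -2, 0, 0, 0, -2, 2, 0, -2, 0, -2, 0, -2, -2, 0],
  [0, 2, -2, 2, 2, 0, 0, -2, 0, -4, 0, 2, 2, -2, 0, 0, -2, 0, -2, 0, -2, 0, 0, -2],
  [0, -2, 2, 2, -2, 0, 0, 2, 0, 0, 0, -2, 2, -2, -4, 0, -2, 0, -2, 0, -2, 0, 0, 2],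
  [0, -2, -2, 2, -2, -4, 0, 2, 0, 0, 0, 2, -2, 2, 0, 0, 2, 0, -2, 0, -2, 0, 0, -2],
  [0, 2, 2, -2, 2, 0, 0, 2, -4, 0, 0, -2, -2, -2, 0, 0, 2, 0, -2, 0, -2, 0, 0, -2],
  [-2, 0, 0, 0, 0, 2, -2, 0, -2, 2, -2, 4, 0, 0, -2, 2, 0, 2, 0, 2, 0, -2, -2, 0],
  [-2, 0, 0, 0, 0, -2, -2, 0, -2, -2, -2, 0, 0, 0, -2, -2, 0, -2, 4, -2, 0, 2, -2, 0],
  [0, -2, -2, -2, -2, 0, 0, -2, 0, 0, 0, -2, -2, -2, 0, 0, -2, 0, 2, 0, -2, -4, 0, -2],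
  [2, 0, 4, 0, 0, -2, -2, 0, 2, -2, -2, 0, 0, 0, 2, -2, 0, 2, 0, 2, 0, -2, -2, 0],
  [-2, 0, 0, 0, 0, -2, 2, 0, -2, 2, 2, 0, 4, 0, 2, -2, 0, 2, 0, -2, 0, -2, -2, 0],
  [-2, 0, 0, 0, 4, -2, -2, 0, 2, 2, 2, 0, 0, 0, -2, -2, 0, -2, 0, 2, 0, -2, 2, 0],
  [0, 2, -2, -2, -2, 0, 0, 2, 0, 0, 0, 2, -2, -2, 0, -4, -2, 0, -2, 0, 2, 0, 0, 2],
  [0, -2, 2, -2, -2, 0, 0, -2, 0, 0, 0, 2, 2, -2, 0, 0, 2, -4, -2, 0, 2, 0, 0, -2],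
  [-4, 2, 2, 2, -2, 0, 0, -2, 0, 0, 0, -2, -2, 2, 0, 0, -2, 0, -2, 0, 2, 0, 0, -2],
  [2, 0, 0, 4, 0, 2, -2, 0, -2, 2, -2, 0, 0, 0, 2, -2, 0, -2, 0, -2, 0, -2, 2, 0],
  [2, 0, 0, 0, 0, -2, -2, 0, -2, -2, 2, 0, 0, 0, -2, 2, 0, 2, 0, -2, 4, -2, 2, 0],
  [0, -2, -2, 2, 2, 0, 0, -2, 0, 0, 0, -2, -2, -2, 0, 0, 2, 0, -2, 0, 2, 0, -4, 2],
  [-2, 0, 0, 0, 0, 2, 2, 0, 2, -2, -2, 0, 0, 0, -2, -2, 4, 2, 0, -2, 0, -2, 2, 0],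
  [0, 2, -2, -2, -2, 0, -4, -2, 0, 0, 0, -2, 2, 2, 0, 0, 2, 0, -2, 0, -2, 0, 0, 2],
  [2, 0, 0, 0, 0, 2, 2, 0, -2, -2, 2, 0, 0, 4, -2, -2, 0, -2, 0, 2, 0, -2, -2, 0],
  [0, -2, -2, -2, 2, 0, 0, 2, 0, 0, -4, -2, 2, 2, 0, 0, -2, 0, -2, 0, 2, 0, 0, -2],
  [-2, 0, 0, 0, 0, 2, -2, 4, 2, -2, 2, 0, 0, 0, 2, 2, 0, -2, 0, -2, 0, -2, -2, 0],
  [-2, 0, 0, 0, 0, -2, 2, 0, -2, -2, -2, 0, 0, 0, 2, 2, 0, -2, 0, 2, 0, -2, 2, 4],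
  [0, -2, 2, -2, 2, 0, 0, -2, 0, 0, 0, 2, -2, 2, 0, 0, -2, 0, -2, -4, -2, 0, 0, 2]]

theorem ok2 : Ok R2 (tr R2) := Cfsg.Agent.CoOneType.CoFast.ok_of_okZ (by decide +kernel)

/-- matrix -/
def R3 : List (List ℤ) := [
  [0, 0, 0, 0, 0, 0, 0, 0, 0, 0, 0, 0, 0, 0, 0, 0, 0, 0, 0, 8, 0, 0, 0, 0],
  [0, 0, 0, 0, 0, 0, 0, 0, 0, 0, 0, 0, 0, 8, 0, 0, 0, 0, 0, 0, 0, 0, 0, 0],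
  [0, 0, 0, 0, 8, 0, 0, 0, 0, 0, 0, 0, 0, 0, 0, 0, 0, 0, 0, 0, 0, 0, 0, 0],
  [0, 0, 8, 0, 0, 0, 0, 0, 0, 0, 0, 0, 0, 0, 0, 0, 0, 0, 0, 0, 0, 0, 0, 0],
  [0, 0, 0, 0, 0, 0, 0, 0, 0, 0, 0, 0, 0, 0, 0, 0, 0, 0, 0, 0, 8, 0, 0, 0],
  [0, 0, 0, 0, 0, 0, 0, 0, 0, 0, 0, 0, 0, 0, 8, 0, 0, 0, 0, 0, 0, 0, 0, 0],
  [0, 0, 0, 0, 0, 0, 8, 0, 0, 0, 0, 0, 0, 0, 0, 0, 0, 0, 0, 0, 0, 0, 0, 0],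
  [0, 0, 0, 0, 0, 0, 0, 8, 0, 0, 0, 0, 0, 0, 0, 0, 0, 0, 0, 0, 0, 0, 0, 0],
  [0, 0, 0, 0, 0, 0, 0, 0, 0, 0, 8, 0, 0, 0, 0, 0, 0, 0, 0, 0, 0, 0, 0, 0],
  [8, 0, 0, 0, 0, 0, 0, 0, 0, 0, 0, 0, 0, 0, 0, 0, 0, 0, 0, 0, 0, 0, 0, 0],
  [0, 0, 0, 0, 0, 0, 0, 0, 0, 0, 0, 0, 0, 0, 0, 8, 0, 0, 0, 0, 0, 0, 0, 0],
  [0, 0, 0, 8, 0, 0, 0, 0, 0, 0, 0, 0, 0, 0, 0, 0, 0, 0, 0, 0, 0, 0, 0, 0],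
  [0, 8, 0, 0, 0, 0, 0, 0, 0, 0, 0, 0, 0, 0, 0, 0, 0, 0, 0, 0, 0, 0, 0, 0],
  [0, 0, 0, 0, 0, 0, 0, 0, 0, 0, 0, 0, 0, 0, 0, 0, 0, 0, 0, 0, 0, 0, 0, 8],
  [0, 0, 0, 0, 0, 0, 0, 0, 8, 0, 0, 0, 0, 0, 0, 0, 0, 0, 0, 0, 0, 0, 0, 0],
  [0, 0, 0, 0, 0, 8, 0, 0, 0, 0, 0, 0, 0, 0, 0, 0, 0, 0, 0, 0, 0, 0, 0, 0],
  [0, 0, 0, 0, 0, 0, 0, 0, 0, 0, 0, 0, 8, 0, 0, 0, 0, 0, 0, 0, 0, 0, 0, 0],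
  [0, 0, 0, 0, 0, 0, 0, 0, 0, 8, 0, 0, 0, 0, 0, 0, 0, 0, 0, 0, 0, 0, 0, 0],
  [0, 0, 0, 0, 0, 0, 0, 0, 0, 0, 0, 0, 0, 0, 0, 0, 0, 0, 8, 0, 0, 0, 0, 0],
  [0, 0, 0, 0, 0, 0, 0, 0, 0, 0, 0, 0, 0, 0, 0, 0, 0, 0, 0, 0, 0, 0, 8, 0],
  [0, 0, 0, 0, 0, 0, 0, 0, 0, 0, 0, 8, 0, 0, 0, 0, 0, 0, 0, 0, 0, 0, 0, 0],
  [0, 0, 0, 0, 0, 0, 0, 0, 0, 0, 0, 0, 0, 0, 0, 0, 0, 0, 0, 0, 0, 8, 0, 0],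
  [0, 0, 0, 0, 0, 0, 0, 0, 0, 0, 0, 0, 0, 0, 0, 0, 0, 8, 0, 0, 0, 0, 0, 0],
  [0, 0, 0, 0, 0, 0, 0, 0, 0, 0, 0, 0, 0, 0, 0, 0, 8, 0, 0, 0, 0, 0, 0, 0]]

theorem ok3 : Ok R3 (tr R3) := Cfsg.Agent.CoOneType.CoFast.ok_of_okZ (by decide +kernel)

/-- matrix -/
def R4 : List (List ℤ) := [
  [0, 0, 0, 0, -2, 0, 2, -2, -2, 0, 2, 0, -2, 0, -2, 0, -2, 0, 2, -4, 0, 2, 2, -2],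
  [2, -2, 2, -2, 0, 2, 0, 4, 0, 2, 0, 2, 0, 2, 0, 2, 0, 2, 0, -2, 2, 0, 0, 0],
  [0, 0, 0, 4, -2, 0, 2, 2, 2, 0, 2, 0, -2, 0, 2, 0, 2, 0, -2, 0, 0, 2, -2, -2],
  [2, 2, -2, -2, -4, 2, 0, 0, 0, 2, 0, 2, 0, -2, 0, -2, 0, 2, 0, 2, -2, 0, 0, 0],
  [0, 0, 4, 0, -2, 0, 2, -2, 2, 0, 2, 0, 2, 0, -2, 0, 2, 0, 2, 0, 0, -2, -2, 2],
  [2, -2, -2, -2, 0, -2, 4, 0, 0, -2, 0, -2, 0, -2, 0, 2, 0, 2, 0, 2, 2, 0, 0, 0],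
  [2, 2, 2, 2, 0, 2, 0, 0, 0, -2, -4, -2, 0, -2, 0, 2, 0, 2, 0, -2, -2, 0, 0, 0],
  [2, 2, 2, -2, 0, -2, 0, 0, 0, -2, 0, 2, 0, 2, 0, 2, 0, -2, 0, 2, -2, 0, 0, -4],
  [2, 2, -2, 2, 0, -2, 0, 0, 0, -2, 0, 2, 0, 2, 0, -2, 0, 2, 0, -2, 2, -4, 0, 0],
  [-2, 2, 2, 2, 0, -2, 0, 0, 0, 2, 0, 2, 0, -2, 0, 2, 0, 2, 0, 2, 2, 0, 4, 0],
  [0, 0, 0, 0, -2, -4, -2, 2, 2, 0, -2, 0, -2, 0, -2, 0, -2, 0, 2, 0, 0, 2, -2, 2],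
  [0, 0, 0, 0, -2, 0, -2, -2, -2, 0, -2, 0, 2, 0, -2, 0, 2, 0, -2, 0, 4, 2, -2, -2],
  [-2, 2, -2, -2, 0, -2, 0, 0, 0, 2, 0, -2, 0, 2, 0, 2, 4, 2, 0, -2, -2, 0, 0, 0],
  [0, 0, 0, 0, 2, 0, 2, -2, -2, 0, -2, 4, -2, 0, 2, 0, 2, 0, 2, 0, 0, 2, -2, 2],
  [-2, 2, -2, -2, 0, 2, 0, 0, 4, -2, 0, 2, 0, -2, 0, 2, 0, -2, 0, -2, 2, 0, 0, 0],
  [4, 0, 0, 0, 2, 0, -2, -2, 2, 0, 2, 0, -2, 0, -2, 0, 2, 0, -2, 0, 0, 2, 2, 2],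
  [-2, -2, 2, -2, 0, -2, 0, 0, 0, -2, 0, 2, 0, -2, 0, -2, 0, 2, -4, -2, -2, 0, 0, 0],
  [0, 0, 0, 0, -2, 0, -2, 2, -2, -4, 2, 0, 2, 0, 2, 0, 2, 0, 2, 0, 0, 2, 2, 2],
  [-2, 2, 2, -2, 0, 2, 0, 0, 0, -2, 0, -2, -4, 2, 0, -2, 0, 2, 0, 2, 2, 0, 0, 0],
  [0, 0, 0, 0, -2, 0, -2, -2, -2, 0, 2, 0, -2, 0, 2, 4, -2, 0, -2, 0, 0, -2, -2, 2],
  [0, 0, 0, 0, 2, 0, -2, 2, -2, 0, 2, 0, -2, -4, -2, 0, 2, 0, 2, 0, 0, -2, -2, -2],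
  [2, 2, 2, -2, 0, -2, 0, 0, 0, 2, 0, -2, 0, -2, 4, -2, 0, -2, 0, -2, 2, 0, 0, 0],
  [0, 0, 0, 0, -2, 0, 2, 2, -2, 0, -2, 0, -2, 0, -2, 0, 2, -4, -2, 0, 0, -2, 2, 2],
  [0, -4, 0, 0, -2, 0, -2, -2, 2, 0, -2, 0, -2, 0, 2, 0, 2, 0, 2, 0, 0, -2, 2, -2]]

theorem ok4 : Ok R4 (tr R4) := Cfsg.Agent.CoOneType.CoFast.ok_of_okZ (by decide +kernel)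

end Cfsg.Agent.CoFive.Mats
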