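import Cfsg.Agent.LThreeCo1.Ev
set_option linter.all false

/-!
# Explicit elements of `Co0` (helper89; generated)
-/

set_option autoImplicit false
set_option maxRecDepth 20000

namespace Cfsg.Agent.CoFive.Mats

open Cfsg.Agent.LThreeCo1.Ev Cfsg.Agent.SporadicStructure.Co0Matrix Cfsg.Agent.CoOneType.CoEval

/-- matrix -/
def R5 : List (List ℤ) := [
  [3, 3, 1, 1, 1, -1, 1, 1, 3, 3, -1, 1, -1, -1, -1, 3, -1, -1, -1, -1, 1, 1, -1, -1],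
  [1, 1, -1, -1, -1, 1, -1, -1, 1, -3, 1, 3, 1, -3, 1, 1, 1, 1, 1, 1, 3, -1, -3, 1],
  [1, 1, -1, 3, -1, -3, -1, -1, 1, 1, 1, -1, -3, 1, 1, -3, 1, 1, 1, 1, 3, -1, 1, 1],
  [1, 1, -1, 3, 3, 1, -1, -1, -3, 1, 1, -1, 1, -3, -3, 1, 1, 1, 1, 1, -1, -1, 1, 1],
  [1, 1, 3, -1, -1, 1, -1, -1, -3, 1, -3, -1, 1, 1, 1, 1, 1, 1, 1, 1, 3, -1, 1, -3],
  [-1, -1, 1, 1, -3, 3, 1, -3, -1, 3, -1, 1, -1, -1, -1, -1, -1, -1, -1, -1, 1, 1, -1, 3],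
  [-1, 3, 1, 1, 1, -1, 1, 1, -1, -1, -1, 1, 3, 3, -1, -1, 3, -1, -1, -1, 1, 1, -1, 3],
  [1, 1, -1, -1, -1, 1, -5, -1, 1, 1, 1, -1, 1, 1, 1, 1, 1, 1, -3, 1, -1, 3, 1, 1],
  [3, -1, 1, 1, 1, -1, 1, -3, -1, -1, -1, 1, -1, -1, 3, -1, 3, -1, -1, -1, -3, 1, -1, -1],
  [-1, -1, 1, 1, 1, -1, 1, 1, -1, -1, -1, 1, -1, -1, 3, 3, -1, -1, -1, 3, 1, 1, 3, 3],
  [-1, -1, -3, 1, 1, -1, 1, -3, -1, -1, -1, 1, -1, 3, -1, 3, -1, 3, -1, -1, 1, 1, -1, -1],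
  [1, 1, -1, -1, 3, 1, -1, -1, 1, 1, -3, 3, 1, 1, 1, -3, -3, 1, 1, 1, -1, -1, 1, 1],
  [1, 1, 3, 3, -1, 1, -1, -1, 1, -3, 1, -1, 1, 1, 1, 1, -3, 1, 1, -3, -1, -1, 1, 1],
  [-3, 1, 3, -1, 3, 1, -1, -1, 1, 1, 1, -1, -3, 1, 1, 1, 1, 1, 1, 1, -1, -1, -3, 1],
  [-1, 3, 1, -3, 1, -1, 1, -3, -1, -1, 3, 1, -1, -1, -1, -1, -1, -1, -1, -1, 1, 1, 3, -1],
  [-1, -1, 1, 1, 1, -1, 1, -3, 3, -1, -1, -3, 3, -1, -1, -1, -1, -1, -1, 3, 1, 1, -1, -1],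
  [1, -3, -1, -1, 3, 1, -1, -1, 1, 1, 1, -1, 1, 1, 1, 1, 1, -3, 1, -3, 3, -1, 1, 1],
  [-1, -1, 1, 1, 1, -1, 1, 1, -1, 3, 3, 1, 3, -1, 3, -1, -1, 3, -1, -1, 1, 1, -1, -1],
  [1, 1, -1, -1, -1, 1, 3, -1, 1, 1, 1, -1, 1, 1, 1, 1, 1, 1, -3, 1, -1, -5, 1, 1],
  [-1, -1, 1, 1, 1, 3, 1, 1, 3, -1, -1, 1, -1, -1, -1, -1, 3, 3, -1, -1, 1, 1, 3, -1],
  [1, -3, 3, -1, -1, -3, -1, -1, 1, 1, 1, 3, 1, 1, -3, 1, 1, 1, 1, 1, -1, -1, 1, 1],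
  [-1, -1, 1, 1, 1, -1, -3, 1, -1, -1, -1, 1, -1, -1, -1, -1, -1, -1, -5, -1, 1, -3, -1, -1],
  [3, -1, 1, 1, 1, 3, 1, 1, -1, -1, 3, 1, -1, 3, -1, -1, -1, -1, -1, 3, 1, 1, -1, -1],
  [-3, 1, -1, 3, -1, 1, -1, -1, 1, 1, 1, 3, 1, 1, 1, 1, 1, -3, 1, 1, -1, -1, 1, -3]]

theorem ok5 : Ok R5 (tr R5) := Cfsg.Agent.CoOneType.CoFast.ok_of_okZ (by decide +kernel)

/-- matrix -/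
def R6 : List (List ℤ) := [
  [-3, -3, -3, -1, 1, 1, -1, -1, -1, 1, 1, 1, 1, 1, -3, -1, -1, 1, 1, 1, 1, -1, 1, 3],
  [3, -1, -1, 1, -1, -1, 1, 1, 1, -1, -1, -1, -1, -1, -1, 1, -3, -1, 3, 3, 3, 1, -1, 1],
  [-1, -1, -1, 1, -1, -1, -3, -3, 1, -1, -1, -1, -1, -1, 3, 1, 1, -1, -1, 3, -1, -3, -1, 1],
  [-1, 3, -1, 1, -1, -1, -3, 1, 1, 3, -1, -1, -1, 3, -1, 1, 1, -1, 3, -1, -1, 1, -1, 1],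
  [1, 1, 1, 3, 1, -3, -1, -1, -1, 1, 1, 1, 1, 1, 1, -1, -1, 5, 1, 1, 1, -1, 1, -1],
  [-3, 1, 1, -1, 1, 1, 3, -1, -1, 1, -3, 1, -3, 1, 1, -1, -1, 1, 1, 1, 1, -1, -3, -1],
  [1, 1, -3, -1, -3, 1, -1, -1, -1, 1, -3, 1, 1, 1, 1, -1, -1, 1, -3, 1, 1, 3, 1, -1],
  [1, 1, -3, -1, 1, 1, -1, 3, -1, 1, 1, 1, -3, -3, 1, -1, -1, 1, 1, 1, -3, -1, 1, -1],
  [1, 1, -3, -1, 1, 1, -1, -1, 3, -3, 1, 1, 1, 1, 1, -1, -1, 1, 1, -3, 1, -1, -3, -1],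
  [1, 1, 1, -1, 1, 1, -1, -1, -1, -3, -3, 1, 1, 1, -3, 3, -1, 1, 1, 1, -3, -1, 1, -1],
  [1, 1, 1, 3, 1, 5, -1, -1, -1, 1, 1, 1, 1, 1, 1, -1, -1, -3, 1, 1, 1, -1, 1, -1],
  [-1, -1, -1, 1, -1, -1, 1, -3, 1, -1, -1, -1, -1, -1, -1, -3, 1, -1, 3, -1, -1, 1, 3, -3],
  [-1, -1, -1, 1, -1, -1, 1, 1, 1, 3, -1, -1, 3, -1, -1, 1, -3, -1, -1, -1, -1, -3, -1, -3],
  [-3, 1, 1, -1, -3, 1, -1, 3, -1, -3, 1, -3, 1, 1, 1, -1, -1, 1, 1, 1, 1, -1, 1, -1],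
  [-1, -1, -1, 1, -1, -1, 1, 1, -3, -1, -1, 3, 3, -1, 3, 1, 1, -1, 3, -1, -1, 1, -1, 1],
  [-1, 3, -1, 1, -1, -1, 1, 1, 1, -1, -1, 3, -1, -1, -1, 1, 1, -1, -1, -1, 3, -3, 3, 1],
  [1, -3, 1, -1, 1, 1, -1, 3, 3, 1, -3, 1, 1, 1, 1, -1, 3, 1, 1, 1, 1, -1, 1, -1],
  [1, 1, 1, -5, 1, -3, -1, -1, -1, 1, 1, 1, 1, 1, 1, -1, -1, -3, 1, 1, 1, -1, 1, -1],
  [1, 1, 1, -1, -3, 1, 3, -1, 3, 1, 1, 1, 1, 1, 1, -1, -1, 1, 1, 1, -3, -1, 1, 3],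
  [1, 1, 1, -1, 1, 1, -1, -1, -1, 1, -3, -3, 1, -3, 1, -1, -1, 1, 1, -3, 1, -1, 1, 3],
  [3, -1, -1, 1, -1, -1, 1, 1, -3, -1, -1, -1, -1, 3, -1, -3, 1, -1, -1, -1, -1, -3, -1, 1],
  [1, 1, -3, -1, 1, 1, 3, -1, -1, 1, 1, -3, 1, 1, 1, 3, 3, 1, 1, 1, 1, -1, 1, -1],
  [1, 1, 1, -1, -3, 1, -1, -1, -1, 1, 1, 1, 1, -3, -3, -1, 3, 1, 1, 1, 1, -1, -3, -1],
  [1, -3, 1, -1, -3, 1, -1, -1, -1, 1, 1, 1, -3, 1, 1, 3, -1, 1, 1, -3, 1, -1, 1, -1]]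

theorem ok6 : Ok R6 (tr R6) := Cfsg.Agent.CoOneType.CoFast.ok_of_okZ (by decide +kernel)

/-- matrix -/
def R7 : List (List ℤ) := [
  [0, 2, 0, -2, 0, -2, 0, -2, 2, 0, 0, -4, 2, 0, -2, 2, 0, -2, 0, 0, 2, 2, 0, 2],
  [2, 0, -2, 0, -2, -4, -2, 0, 0, -2, 2, 2, 0, 2, 0, 0, -2, 0, 2, -2, 0, 0, -2, 0],
  [2, -4, -2, 0, -2, 0, 2, 0, 0, -2, -2, -2, 0, -2, 0, 0, 2, 0, 2, -2, 0, 0, 2, 0],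
  [0, 2, 0, 2, 0, -2, 0, 2, 2, 0, 0, 0, 2, 0, 2, 2, 4, 2, 0, 0, -2, 2, 0, -2],
  [2, 0, 2, 0, -2, 0, 2, 4, 0, 2, 2, -2, 0, -2, 0, 0, -2, 0, 2, 2, 0, 0, -2, 0],
  [0, -2, 0, -2, 0, -2, 0, -2, 2, 0, 0, 0, -2, 0, 2, 2, 0, 2, 0, 4, 2, -2, 0, -2],
  [2, 0, 2, 0, 2, 0, -2, 0, 0, -2, -2, 2, 4, -2, 0, 0, -2, 0, 2, 2, 0, 0, 2, 0],
  [0, -2, 4, 2, 0, -2, 0, -2, 2, 0, 0, 0, -2, 0, 2, -2, 0, -2, 0, 0, -2, 2, 0, 2],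
  [0, 2, 0, -2, 0, -2, 4, -2, -2, 0, 0, 0, 2, 0, 2, -2, 0, 2, 0, 0, -2, -2, 0, 2],
  [2, 0, 2, 0, 2, 0, -2, 0, 0, 2, 2, -2, 0, 2, 0, 0, 2, 0, 2, -2, 0, -4, 2, 0],
  [4, 2, 0, -2, 0, 2, 0, -2, 2, 0, 0, 0, -2, 0, -2, -2, 0, 2, 0, 0, -2, 2, 0, -2],
  [-2, 0, -2, 0, 2, 0, -2, 0, 0, -2, 2, -2, 0, -2, 0, -4, 2, 0, 2, 2, 0, 0, -2, 0],
  [-2, 0, -2, 0, -2, 0, -2, 0, 0, 2, -2, -2, 0, 2, 0, 0, -2, 0, 2, 2, -4, 0, 2, 0],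
  [0, -2, 0, -2, 0, -2, 0, 2, 2, 0, 0, 0, 2, 0, -2, -2, 0, -2, -4, 0, -2, -2, 0, -2],
  [-2, 0, 2, -4, -2, 0, -2, 0, 0, 2, -2, 2, 0, -2, 0, 0, 2, 0, 2, -2, 0, 0, -2, 0],
  [0, 2, 0, 2, 0, -2, 0, -2, -2, 0, 0, 0, -2, -4, -2, 2, 0, -2, 0, 0, -2, -2, 0, -2],
  [0, 2, 0, -2, 0, -2, 0, 2, -2, 0, 0, 0, -2, 0, 2, -2, 0, -2, 0, 0, 2, 2, 4, -2],
  [-2, 0, 2, 0, -2, 0, 2, 0, 0, -2, 2, 2, 0, 2, -4, 0, 2, 0, 2, 2, 0, 0, 2, 0],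
  [0, -2, 0, -2, 4, -2, 0, 2, -2, 0, 0, 0, -2, 0, -2, 2, 0, 2, 0, 0, -2, 2, 0, 2],
  [0, -2, 0, -2, 0, 2, 0, -2, -2, 0, 4, 0, 2, 0, 2, 2, 0, -2, 0, 0, -2, 2, 0, -2],
  [2, 0, -2, 0, -2, 0, -2, 0, 0, 2, 2, 2, 0, -2, 0, 0, 2, 0, -2, 2, 0, 0, 2, 4],
  [-2, 0, 2, 0, -2, 0, -2, 0, 0, -2, 2, -2, 0, -2, 0, 0, -2, 4, -2, -2, 0, 0, 2, 0],
  [2, 0, 2, 0, -2, 0, -2, 0, -4, -2, -2, -2, 0, 2, 0, 0, 2, 0, -2, 2, 0, 0, -2, 0],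
  [0, 2, 0, -2, 0, 2, 0, 2, 2, -4, 0, 0, -2, 0, 2, 2, 0, -2, 0, 0, -2, -2, 0, 2]]

theorem ok7 : Ok R7 (tr R7) := Cfsg.Agent.CoOneType.CoFast.ok_of_okZ (by decide +kernel)

/-- matrix -/
def R8 : List (List ℤ) := [
  [-1, 1, -3, 1, -1, -1, 3, -1, 1, 1, -1, -1, 1, -1, -1, 1, 1, -5, 1, -1, 1, 1, -1, 1],
  [-1, -3, 1, 1, -1, -1, -1, -1, 1, -3, -1, -1, 1, -1, 3, -3, 1, -1, 1, 3, 1, 1, -1, 1],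
  [1, -1, -1, -1, 1, 1, 1, -3, 3, -1, 1, 1, -1, 1, 1, -1, 3, 1, -1, -3, 3, -1, 1, -1],
  [-1, 1, 1, 1, -1, 3, -1, -1, -3, 1, 3, -1, 1, 3, 3, 1, 1, -1, 1, -1, 1, 1, -1, 1],
  [-1, 1, -3, 1, -1, -1, -5, -1, 1, 1, -1, -1, 1, -1, -1, 1, 1, 3, 1, -1, 1, 1, -1, 1],
  [3, 1, 1, -3, 3, -1, -1, -1, 1, 1, -1, -1, 1, 3, -1, 1, 1, -1, 1, 3, 1, 1, -1, 1],
  [1, -1, -1, 3, 1, -3, 1, 1, -1, -1, 1, -3, -1, 1, 1, 3, 3, 1, -1, 1, -1, -1, 1, -1],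
  [1, -1, -1, -1, -3, 1, 1, 1, -1, -1, -3, 1, 3, 1, 1, 3, -1, 1, -1, 1, 3, -1, 1, -1],
  [-3, -1, -1, -1, 1, 1, 1, -3, -1, -1, 1, -3, 3, 1, -3, -1, -1, 1, -1, 1, -1, -1, 1, -1],
  [-1, 1, 1, 1, -1, 3, -1, -1, 1, 1, -1, -1, -3, -1, -1, 1, 1, -1, -3, 3, 1, 1, -1, -3],
  [-1, -3, 1, 1, 3, 3, -1, 3, 1, 1, -1, -1, 1, -1, -1, 1, 1, -1, 1, -1, 1, 1, 3, 1],
  [3, 1, 1, 1, -1, -1, -1, -1, -3, 1, -1, -1, 1, -1, -1, -3, 1, -1, 1, -1, 1, 1, 3, -3],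
  [-1, 1, 1, 1, -1, -1, -1, -1, 1, -3, -1, -1, -3, 3, -1, 1, -3, -1, 1, -1, 1, 1, 3, 1],
  [-1, 1, 1, 1, -1, -1, -1, 3, 1, 1, -1, -1, 1, 3, -1, -3, 1, -1, -3, -1, 1, -3, -1, 1],
  [-1, -3, 1, -3, -1, -1, -1, -1, -3, 1, -1, -1, -3, -1, -1, 1, 1, -1, 1, -1, 1, -3, -1, 1],
  [-1, 1, 1, -3, -1, -1, -1, 3, 1, -3, 3, -1, 1, -1, -1, 1, 1, -1, 1, -1, 1, 1, -1, -3],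
  [1, -1, -1, -1, -3, 1, 1, 1, 3, 3, 1, -3, -1, 1, 1, -1, -1, 1, 3, 1, -1, -1, 1, -1],
  [1, -1, -1, 3, 1, 1, 1, 1, -1, -1, 1, 1, -1, 1, -3, -1, -1, 1, 3, 1, 3, -1, -3, -1],
  [-1, 1, 5, 1, -1, -1, 3, -1, 1, 1, -1, -1, 1, -1, -1, 1, 1, 3, 1, -1, 1, 1, -1, 1],
  [1, -1, -1, -1, 1, 1, 1, 1, -1, -1, -3, -3, -1, 1, 1, -1, -1, 1, -1, -3, -1, 3, -3, -1],
  [-3, -1, -1, -1, 1, -3, 1, 1, -1, 3, 1, 1, -1, 1, 1, -1, -1, 1, -1, 1, 3, 3, 1, -1],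
  [3, -3, 1, 1, -1, -1, -1, -1, 1, 1, 3, -1, 1, -1, -1, 1, -3, -1, -3, -1, 1, 1, -1, 1],
  [-1, 1, 1, 1, 3, -1, -1, -1, 1, 1, -1, -1, 1, -1, 3, 1, -3, -1, 1, -1, 1, -3, -1, -3],
  [-1, -3, 1, 1, -1, -1, -1, -1, 1, 1, -1, 3, 1, 3, -1, 1, 1, -1, 1, -1, -3, 1, -1, -3]]

theorem ok8 : Ok R8 (tr R8) := Cfsg.Agent.CoOneType.CoFast.ok_of_okZ (by decide +kernel)

end Cfsg.Agent.CoFive.Mats
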